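import Mathlib
import Cfsg.Agent.Lib.Helper68.MG.Defs

set_option autoImplicit false

namespace Cfsg.Agent.Lib.Helper68.MG

universe u
variable {Ω : Type u} [Finite Ω]

omit [Finite Ω] in
theorem CN1_iff {Δ : Set Ω} {τ : Equiv.Perm ↥Δ} {s : Equiv.Perm Ω}
    (h : ∀ x : ↥Δ, s (x : Ω) = ((τ x : ↥Δ) : Ω)) (x : Ω) : s x ∈ Δᶜ ↔ x ∈ Δᶜ := by
  constructor
  · intro hx hxΔ
    apply hx
    rw [h ⟨x, hxΔ⟩]
    exact (τ ⟨x, hxΔ⟩).2
  · intro hx hs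
    apply hx
    have h1 := h (τ⁻¹ ⟨s x, hs⟩)
    have h0 : τ (τ⁻¹ ⟨s x, hs⟩) = ⟨s x, hs⟩ := by simp
    rw [h0] at h1
    have h2 : ((τ⁻¹ ⟨s x, hs⟩ : ↥Δ) : Ω) = x := s.injective h1
    rw [← h2]
    exact (τ⁻¹ ⟨s x, hs⟩).2

theorem CN1 (G : Subgroup (Equiv.Perm Ω)) (Δ : Set Ω) (hC : Fx G Δᶜ = ⊥) :
    Nat.card ↥(Xr G Δ) ≤ (Δᶜ.ncard).factorial := by
  classical
  let f : ↥(Xr G Δ) → Equiv.Perm ↥Δᶜ := fun τ =>
    Equiv.Perm.subtypePerm (Classical.choose τ.2) (CN1_iff (Classical.choose_spec τ.2).2)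
  have hf : Function.Injective f := by
    intro τ τ' hff
    have hs := Classical.choose_spec τ.2
    have hs' := Classical.choose_spec τ'.2
    set s := Classical.choose τ.2 with hsdef
    set s' := Classical.choose τ'.2 with hsdef'
    have h1 : ∀ x ∈ Δᶜ, s x = s' x := by
      intro x hx
      have h2 := congrArg (fun σ : Equiv.Perm ↥Δᶜ => ((σ ⟨x, hx⟩ : ↥Δᶜ) : Ω)) hff
      exact h2
    have h3 : s⁻¹ * s' ∈ Fx G Δᶜ := by
      refine ⟨mul_mem (inv_mem hs.1) hs'.1, fun x hx => ?_⟩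
      rw [Equiv.Perm.mul_apply, ← h1 x hx]
      simp
    rw [hC, Subgroup.mem_bot, inv_mul_eq_one] at h3
    apply Subtype.ext
    ext x
    rw [← hs.2 x, ← hs'.2 x, h3]
  have h4 := Nat.card_le_card_of_injective f hf
  rw [Nat.card_perm, Nat.card_coe_set_eq] at h4
  exact h4

end Cfsg.Agent.Lib.Helper68.MG
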