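import Mathlib
import Cfsg.Agent.Lib.Helper68.MG.Defs
import Cfsg.Agent.Lib.Helper68.MG.CN1

set_option autoImplicit false

namespace Cfsg.Agent.Lib.Helper68.MG

universe u
variable {Ω : Type u} [Finite Ω]

theorem CN2 (G : Subgroup (Equiv.Perm Ω)) (Δ : Set Ω) [Fintype ↥Δ] [DecidableEq ↥Δ] (h2 : 2 ≤ Δᶜ.ncard)
    (hlt : Δᶜ.ncard < Δ.ncard) (hA : alternatingGroup ↥Δ ≤ Xr G Δ) : ∃ c ∈ Fx G Δᶜ, c ≠ 1 := by
  by_contra hcon
  push_neg at hcon
  have hC : Fx G Δᶜ = ⊥ := by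
    rw [eq_bot_iff]
    intro c hc
    exact Subgroup.mem_bot.mpr (hcon c hc)
  have h1 := CN1 G Δ hC
  set m := Δᶜ.ncard with hm
  have hcardΔ : Fintype.card ↥Δ = Δ.ncard := by
    rw [← Nat.card_eq_fintype_card]; rfl
  haveI : Nontrivial ↥Δ := by
    rw [← Fintype.one_lt_card_iff_nontrivial, hcardΔ]; omega
  have h3 : 2 * Nat.card (alternatingGroup ↥Δ) = (Δ.ncard).factorial := by
    rw [Nat.card_eq_fintype_card, two_mul_card_alternatingGroup, Fintype.card_perm, hcardΔ]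
  have h4 : Nat.card (alternatingGroup ↥Δ) ≤ Nat.card ↥(Xr G Δ) :=
    Subgroup.card_le_of_le hA
  have h5 : (m + 1).factorial ≤ (Δ.ncard).factorial := Nat.factorial_le (by omega)
  have h6 : (m + 1).factorial = (m + 1) * m.factorial := Nat.factorial_succ m
  have h7 : 0 < m.factorial := Nat.factorial_pos m
  have h8 : (m + 1) * m.factorial ≤ 2 * m.factorial := by
    calc (m + 1) * m.factorial = (m + 1).factorial := h6.symm
      _ ≤ (Δ.ncard).factorial := h5
      _ = 2 * Nat.card (alternatingGroup ↥Δ) := h3.symm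
      _ ≤ 2 * m.factorial := by omega
  have h9 : m + 1 ≤ 2 := Nat.le_of_mul_le_mul_right h8 h7
  omega

end Cfsg.Agent.Lib.Helper68.MG
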