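import Mathlib
import Cfsg.Agent.Lib.Helper68.MG.Defs

set_option autoImplicit false

namespace Cfsg.Agent.Lib.Helper68.MG

universe u
variable {Ω : Type u} [Finite Ω]

theorem E1 (G : Subgroup (Equiv.Perm Ω)) (hP : Prim G) (F : Set Ω) (hF : F.Nonempty) (h2 : 2 ≤ Fᶜ.ncard) :
    ∃ g ∈ G, g '' Fᶜ ≠ Fᶜ ∧ ¬ Disjoint (g '' Fᶜ) Fᶜ ∧
      ∀ h ∈ G, h '' Fᶜ ≠ Fᶜ → ¬ Disjoint (h '' Fᶜ) Fᶜ → (g '' Fᶜ \ Fᶜ).ncard ≤ (h '' Fᶜ \ Fᶜ).ncard := by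
  classical
  set Λ : Set Ω := Fᶜ with hΛ
  have h1 : ∃ g ∈ G, g '' Λ ≠ Λ ∧ ¬ Disjoint (g '' Λ) Λ := by
    by_contra hcon
    push_neg at hcon
    have hb : ∀ g ∈ G, g '' Λ = Λ ∨ Disjoint (g '' Λ) Λ := by
      intro g hg
      by_cases h : g '' Λ = Λ
      · exact Or.inl h
      · exact Or.inr (hcon g hg h)
    rcases hP.2 Λ hb with hs | hu
    · have : Λ.ncard ≤ 1 := (Set.ncard_le_one (Set.toFinite _)).2 (fun a ha b hb => hs ha hb)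
      omega
    · obtain ⟨f, hf⟩ := hF
      have : f ∈ Λ := by rw [hu]; trivial
      exact this hf
  have hex : ∃ n, ∃ g ∈ G, g '' Λ ≠ Λ ∧ ¬ Disjoint (g '' Λ) Λ ∧ (g '' Λ \ Λ).ncard = n := by
    obtain ⟨g, hg, ha, hb⟩ := h1
    exact ⟨_, g, hg, ha, hb, rfl⟩
  obtain ⟨g, hg, hne, hmeet, he⟩ := Nat.find_spec hex
  refine ⟨g, hg, hne, hmeet, ?_⟩
  intro g' hg' ha hb
  rw [he]
  exact Nat.find_min' hex ⟨g', hg', ha, hb, rfl⟩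

end Cfsg.Agent.Lib.Helper68.MG
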