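import Mathlib
import Cfsg.Agent.Lib.Helper68.MG.Defs
import Cfsg.Agent.Lib.Helper16.MG.E

set_option autoImplicit false

namespace Cfsg.Agent.Lib.Helper68.MG

universe u
variable {Ω : Type u}

theorem E2 (G : Subgroup (Equiv.Perm Ω)) (F : Set Ω) (hJ : Jor G F) (g : Equiv.Perm Ω) (hg : g ∈ G)
    (hmeet : ¬ Disjoint (g '' Fᶜ) Fᶜ) : Jor G (F \ (g '' Fᶜ \ Fᶜ)) :=
  Cfsg.Agent.Lib.Helper16.MG.E_jor hJ hg hmeet

end Cfsg.Agent.Lib.Helper68.MG
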