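import Mathlib
import Cfsg.Agent.Lib.Helper68.MG.Defs
import Cfsg.Agent.Lib.Helper16.MG.E

set_option autoImplicit false

namespace Cfsg.Agent.Lib.Helper68.MG

open Cfsg.Agent.Lib.Helper16.MG

universe u
variable {Ω : Type u} [Finite Ω]

theorem E3 (G : Subgroup (Equiv.Perm Ω)) (F : Set Ω) (g : Equiv.Perm Ω) (hg : g ∈ G) (hne : g '' Fᶜ ≠ Fᶜ)
    (hmeet : ¬ Disjoint (g '' Fᶜ) Fᶜ)
    (hmin : ∀ h ∈ G, h '' Fᶜ ≠ Fᶜ → ¬ Disjoint (h '' Fᶜ) Fᶜ → (g '' Fᶜ \ Fᶜ).ncard ≤ (h '' Fᶜ \ Fᶜ).ncard) :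
    ∀ μ ∈ Fx G (F \ (g '' Fᶜ \ Fᶜ)), μ '' (g '' Fᶜ \ Fᶜ) = g '' Fᶜ \ Fᶜ ∨
      Disjoint (μ '' (g '' Fᶜ \ Fᶜ)) (g '' Fᶜ \ Fᶜ) := by
  classical
  set Λ : Set Ω := Fᶜ with hΛ
  set B : Set Ω := g '' Λ \ Λ with hB
  have hBΛ : Disjoint B Λ := Set.disjoint_sdiff_left
  have hlt : B.ncard < Λ.ncard := by
    obtain ⟨z, hz1, hz2⟩ := Set.not_disjoint_iff.1 hmeet
    have hss : B ⊂ g '' Λ := by
      refine ⟨Set.diff_subset, fun h => ?_⟩
      exact (h hz1).2 hz2
    have := Set.ncard_lt_ncard hss (Set.toFinite _)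
    rwa [E_ncard_image] at this
  have hU : (F \ B)ᶜ = Λ ∪ B := by
    ext x
    simp only [Set.mem_compl_iff, Set.mem_diff, not_and, not_not, Set.mem_union, hΛ]
    constructor
    · intro h
      by_cases hx : x ∈ F
      · exact Or.inr (h hx)
      · exact Or.inl hx
    · rintro (h | h) hx
      · exact absurd hx h
      · exact h
  intro μ hμ
  have hμU : μ '' (Λ ∪ B) = Λ ∪ B := by
    rw [← hU]; exact E_image_compl μ _ hμ.2
  have hdisj : Disjoint (μ '' B) (μ '' Λ) := (Set.disjoint_image_iff μ.injective).2 hBΛ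
  have hΛsub : μ '' Λ ⊆ Λ ∪ B := by
    rw [← hμU]; exact Set.image_mono Set.subset_union_left
  have hBsub : μ '' B ⊆ Λ ∪ B := by
    rw [← hμU]; exact Set.image_mono Set.subset_union_right
  by_cases hμΛ : μ '' Λ = Λ
  · left
    rw [hμΛ] at hdisj
    apply Set.Subset.antisymm
    · intro x hx
      rcases hBsub hx with h | h
      · exact absurd h (Set.disjoint_left.1 hdisj hx)
      · exact h
    · intro x hx
      have : x ∈ μ '' (Λ ∪ B) := by rw [hμU]; exact Or.inr hx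
      rw [Set.image_union, hμΛ] at this
      rcases this with h | h
      · exact absurd h (Set.disjoint_left.1 hBΛ hx)
      · exact h
  · right
    have hm : ¬ Disjoint (μ '' Λ) Λ := by
      intro hd
      have c1 : (μ '' Λ ∪ Λ).ncard = (μ '' Λ).ncard + Λ.ncard :=
        Set.ncard_union_eq hd (Set.toFinite _) (Set.toFinite _)
      have c2 : (μ '' Λ ∪ Λ).ncard ≤ (Λ ∪ B).ncard :=
        Set.ncard_le_ncard (Set.union_subset hΛsub Set.subset_union_left) (Set.toFinite _)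
      have c3 : (Λ ∪ B).ncard ≤ Λ.ncard + B.ncard := Set.ncard_union_le _ _
      rw [E_ncard_image] at c1
      omega
    have hle := hmin μ hμ.1 hμΛ hm
    have hs : μ '' Λ \ Λ ⊆ B := by
      intro x hx
      rcases hΛsub hx.1 with h | h
      · exact absurd h hx.2
      · exact h
    have heq : μ '' Λ \ Λ = B := Set.eq_of_subset_of_ncard_le hs hle (Set.toFinite _)
    have hBin : B ⊆ μ '' Λ := by rw [← heq]; exact Set.diff_subset
    exact Set.disjoint_of_subset_right hBin hdisj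

end Cfsg.Agent.Lib.Helper68.MG
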