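import Mathlib
import Cfsg.Agent.Lib.Helper68.MG.Defs
import Cfsg.Agent.Lib.Helper68.MG.D

set_option autoImplicit false

namespace Cfsg.Agent.Lib.Helper68.MG

universe u
variable {Ω : Type u} [Finite Ω]
/-- `D` with `g = 1`, `U = Δ \ F` (nonempty): `Δᶜ ∪ U = Fᶜ` has more than `|B|` points (`hE.lt`), so `hno` holds.  Get `P = μ '' B` meeting `Δ \ F`, disjoint from `Δᶜ`.  `P ≠ B` (`B ⊆ F`), so `P` is disjoint from `B` (`hE.blk`);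
`P ⊆ (F \ B)ᶜ`; so `P ⊆ Δ \ F`.  `μ⁻¹ '' Δ ⊇ B ∪ (F \ B) = F`; `hG.T μ⁻¹` gives `ν ∈ Fx G F` with `ν μ⁻¹ Δ = Δ`.  `s := (ν * μ⁻¹)⁻¹ = μ * ν⁻¹`: `s Δ = Δ`, `s B = μ B = P` (`ν` fixes `B ⊆ F` pointwise).  (proof by helper39) -/
theorem GS2 (G : Subgroup (Equiv.Perm Ω)) (Δ F B : Set Ω) (hJ : Jor G Δ) (hΓ : Δᶜ.Nonempty) (hG : Good G Δ F)
    (hE : Ext G F B) (hne : F ≠ Δ) : ∃ s ∈ Fx G (F \ B), s '' Δ = Δ ∧ s '' B ⊆ Δ \ F := by
  classical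
  have h1 : ∀ A : Set Ω, (1 : Equiv.Perm Ω) '' A = A := fun A => by simp
  have hU : (Δ \ F).Nonempty := by
    by_contra hemp
    rw [Set.not_nonempty_iff_eq_empty, Set.sdiff_eq_empty] at hemp
    exact hne (Set.Subset.antisymm hG.sub hemp)
  obtain ⟨μ, hμ, ⟨w, hwP, hwU⟩, hdisj⟩ := D G Δ F B hJ hΓ hE 1 (one_mem _)
    (by rw [h1]; exact fun x hx => hG.sub hx.1) (Δ \ F) hU (fun x hx h => hx.2 h.1)
    (by rw [h1]; exact fun x hx => hx.1)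
    (by
      intro μ hμ hsub
      rw [h1] at hsub
      have h2 : Fᶜ ⊆ μ '' B := by
        intro x hx
        apply hsub
        by_cases hxΔ : x ∈ Δ
        · exact Or.inr ⟨hxΔ, hx⟩
        · exact Or.inl hxΔ
      have h3 := Set.ncard_le_ncard h2 (Set.toFinite _)
      rw [Set.ncard_image_of_injective B μ.injective] at h3
      have h4 := hE.lt
      omega)
  rw [h1] at hdisj
  have hPB : Disjoint (μ '' B) B := by
    rcases hE.blk μ hμ with h | h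
    · exfalso
      rw [h] at hwP
      exact hwU.2 (hE.sub hwP)
    · exact h
  have hPsub : μ '' B ⊆ Δ \ F := by
    rintro _ ⟨b, hb, rfl⟩
    refine ⟨?_, fun hF => ?_⟩
    · by_contra hΔ
      exact (Set.disjoint_left.mp hdisj) ⟨b, hb, rfl⟩ hΔ
    · by_cases hB : μ b ∈ B
      · exact (Set.disjoint_left.mp hPB) ⟨b, hb, rfl⟩ hB
      · have h5 := hμ.2 (μ b) ⟨hF, hB⟩
        have h6 : μ b = b := μ.injective h5
        exact hB (h6.symm ▸ hb)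
  have hFsub : F ⊆ (μ⁻¹ : Equiv.Perm Ω) '' Δ := by
    intro f hf
    refine ⟨μ f, ?_, by simp⟩
    by_cases hB : f ∈ B
    · exact (hPsub ⟨f, hB, rfl⟩).1
    · rw [hμ.2 f ⟨hf, hB⟩]; exact hG.sub hf
  obtain ⟨ν, hν, hνΔ⟩ := hG.T μ⁻¹ (inv_mem hμ.1) hFsub
  have hνinv : ν⁻¹ ∈ Fx G F := inv_mem hν
  refine ⟨μ * ν⁻¹, mul_mem hμ ⟨hνinv.1, fun f hf => hνinv.2 f hf.1⟩, ?_, ?_⟩
  · conv_lhs => rw [← hνΔ]
    simp [Set.image_image]
  · rintro _ ⟨b, hb, rfl⟩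
    rw [Equiv.Perm.mul_apply, hνinv.2 b (hE.sub hb)]
    exact hPsub ⟨b, hb, rfl⟩

end Cfsg.Agent.Lib.Helper68.MG
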