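import Mathlib
import Cfsg.Agent.Lib.Helper68.MG.Defs

set_option autoImplicit false

namespace Cfsg.Agent.Lib.Helper68.MG

universe u
variable {Ω : Type u} [Fintype Ω] [DecidableEq Ω]

omit [Fintype Ω] in
theorem LF_swap {Δ : Set Ω} [DecidableEq ↥Δ] (a b w : ↥Δ) :
    ((Equiv.swap a b w : ↥Δ) : Ω) = Equiv.swap (a : Ω) (b : Ω) (w : Ω) := by
  by_cases h1 : w = a
  · subst h1
    rw [Equiv.swap_apply_left, Equiv.swap_apply_left]
  · by_cases h2 : w = b
    · subst h2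
      rw [Equiv.swap_apply_right, Equiv.swap_apply_right]
    · rw [Equiv.swap_apply_of_ne_of_ne h1 h2,
        Equiv.swap_apply_of_ne_of_ne (fun h => h1 (Subtype.ext h)) (fun h => h2 (Subtype.ext h))]

/-- a 3-cycle of `Δ` lifts to a 3-cycle of `Ω`. -/
theorem LF (G : Subgroup (Equiv.Perm Ω)) (Δ : Set Ω) [Fintype ↥Δ] [DecidableEq ↥Δ] (h3 : 3 ≤ Fintype.card ↥Δ)
    (hA : alternatingGroup ↥Δ ≤ Xr (Fx G Δᶜ) Δ) : ∃ c ∈ G, c.IsThreeCycle := by
  obtain ⟨x, y, z, hxy, hxz, hyz⟩ := Fintype.two_lt_card_iff.mp h3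
  have hτ : (Equiv.swap x y * Equiv.swap x z).IsThreeCycle :=
    Equiv.Perm.isThreeCycle_swap_mul_swap_same hxy hxz hyz
  obtain ⟨c, hc, hind⟩ := hA hτ.mem_alternatingGroup
  refine ⟨c, hc.1, ?_⟩
  have hceq : c = Equiv.swap (x : Ω) (y : Ω) * Equiv.swap (x : Ω) (z : Ω) := by
    ext w
    by_cases hw : w ∈ Δ
    · have := hind ⟨w, hw⟩
      rw [Equiv.Perm.mul_apply, LF_swap, LF_swap] at this
      rw [Equiv.Perm.mul_apply]
      exact this
    · have h1 : c w = w := hc.2 w hw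
      have hne : ∀ v : ↥Δ, w ≠ (v : Ω) := by
        intro v hv
        exact hw (hv ▸ v.2)
      rw [h1, Equiv.Perm.mul_apply, Equiv.swap_apply_of_ne_of_ne (hne x) (hne z),
        Equiv.swap_apply_of_ne_of_ne (hne x) (hne y)]
  rw [hceq]
  exact Equiv.Perm.isThreeCycle_swap_mul_swap_same (fun h => hxy (Subtype.ext h))
    (fun h => hxz (Subtype.ext h)) (fun h => hyz (Subtype.ext h))

end Cfsg.Agent.Lib.Helper68.MG
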