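import Mathlib
import Cfsg.Agent.Lib.Helper68.MG.Defs

set_option autoImplicit false

namespace Cfsg.Agent.Lib.Helper68.MG

universe u
variable {Ω : Type u} [Finite Ω]

omit [Finite Ω] in
theorem M1a_not_mem {G : Subgroup (Equiv.Perm Ω)} {F : Set Ω} {τ : Equiv.Perm Ω} (hτ : τ ∈ Fx G F) {x : Ω}
    (hx : x ∉ F) : τ x ∉ F := by
  intro h
  have h1 : τ (τ x) = τ x := hτ.2 _ h
  have h2 : τ x = x := τ.injective h1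
  exact hx (h2 ▸ h)

omit [Finite Ω] in
theorem M1a_two (G : Subgroup (Equiv.Perm Ω)) (Δ : Set Ω) (b : Ω) (hb : b ∈ Δ) (hJ : Jor G Δ)
    (hJ' : Jor G (Δ \ {b})) (a₁ a₂ c₁ c₂ : Ω) (ha₁ : a₁ ∉ Δ \ {b}) (ha₂ : a₂ ∉ Δ \ {b})
    (hc₁ : c₁ ∉ Δ \ {b}) (hc₂ : c₂ ∉ Δ \ {b}) (ha : a₁ ≠ a₂) (hc : c₁ ≠ c₂) :
    ∃ g ∈ Fx G (Δ \ {b}), g a₁ = c₁ ∧ g a₂ = c₂ := by
  have hbF : b ∉ Δ \ {b} := fun h => h.2 rfl
  obtain ⟨τ₁, hτ₁, h1⟩ := hJ' a₁ ha₁ b hbF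
  obtain ⟨τ₂, hτ₂, h2⟩ := hJ' c₁ hc₁ b hbF
  have hA : τ₁ a₂ ∉ Δ := by
    intro h
    have h3 : τ₁ a₂ ∉ Δ \ {b} := M1a_not_mem hτ₁ ha₂
    apply h3
    refine ⟨h, ?_⟩
    intro h4
    have h5 : τ₁ a₂ = τ₁ a₁ := by rw [h1]; exact h4
    exact ha (τ₁.injective h5).symm
  have hC : τ₂ c₂ ∉ Δ := by
    intro h
    have h3 : τ₂ c₂ ∉ Δ \ {b} := M1a_not_mem hτ₂ hc₂
    apply h3
    refine ⟨h, ?_⟩
    intro h4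
    have h5 : τ₂ c₂ = τ₂ c₁ := by rw [h2]; exact h4
    exact hc (τ₂.injective h5).symm
  obtain ⟨σ, hσ, h3⟩ := hJ _ hA _ hC
  have hσ' : σ ∈ Fx G (Δ \ {b}) := ⟨hσ.1, fun f hf => hσ.2 f hf.1⟩
  refine ⟨τ₂⁻¹ * σ * τ₁, mul_mem (mul_mem (inv_mem hτ₂) hσ') hτ₁, ?_, ?_⟩
  · rw [Equiv.Perm.mul_apply, Equiv.Perm.mul_apply, h1, hσ.2 b hb, Equiv.Perm.inv_eq_iff_eq, h2]
  · rw [Equiv.Perm.mul_apply, Equiv.Perm.mul_apply, h3, Equiv.Perm.inv_eq_iff_eq]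

/-- `H = fixingSubgroup ↥G (Δ \ {b})` acts on `ofFixingSubgroup` = the points outside `Δ \ {b}` = `Δᶜ ∪ {b}`.  Transitive by `hJ'`.  A block `Bl` with two points: translate so that it contains `b` and some `x ∈ Δᶜ`... elementwise:
if `u ≠ v ∈ Bl`, `w ≠ u`: take `τ` with `τ u = b` (`hJ'`), `σ ∈ Fx G Δ` (fixes `b`) with `σ (τ v) = τ w` (`hJ`; `τ v, τ w ∈ Δᶜ`), `ρ = τ⁻¹ σ τ` fixes `u` and maps `v` to `w`.  So `Bl` is everything.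
(Or: 2-pretransitive ⇒ preprimitive, `MulAction.isPreprimitive_of_is_two_pretransitive`.) -/
theorem M1a (G : Subgroup (Equiv.Perm Ω)) (Δ : Set Ω) (b : Ω) (hb : b ∈ Δ) (hJ : Jor G Δ) (hJ' : Jor G (Δ \ {b})) :
    MulAction.IsPreprimitive ↥(fixingSubgroup ↥G (Δ \ {b})) ↥(SubMulAction.ofFixingSubgroup ↥G (Δ \ {b})) := by
  apply MulAction.isPreprimitive_of_is_two_pretransitive
  rw [MulAction.is_two_pretransitive_iff]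
  intro a₁ a₂ c₁ c₂ ha hc
  have e : ∀ x : ↥(SubMulAction.ofFixingSubgroup ↥G (Δ \ {b})), (x : Ω) ∉ Δ \ {b} := fun x =>
    (SubMulAction.mem_ofFixingSubgroup_iff ↥G).1 x.2
  obtain ⟨g, hg, h1, h2⟩ := M1a_two G Δ b hb hJ hJ' a₁ a₂ c₁ c₂ (e a₁) (e a₂) (e c₁) (e c₂)
    (fun h => ha (Subtype.ext h)) (fun h => hc (Subtype.ext h))
  have hmem : (⟨g, hg.1⟩ : ↥G) ∈ fixingSubgroup ↥G (Δ \ {b}) := by
    rw [mem_fixingSubgroup_iff]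
    intro y hy
    exact hg.2 y hy
  exact ⟨⟨⟨g, hg.1⟩, hmem⟩, Subtype.ext h1, Subtype.ext h2⟩

end Cfsg.Agent.Lib.Helper68.MG
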