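import Mathlib
import Cfsg.Agent.Lib.Helper68.MG.Defs
import Cfsg.Agent.Lib.Helper68.MG.M1a
import Cfsg.Agent.Lib.Helper68.MG.BR2

set_option autoImplicit false

namespace Cfsg.Agent.Lib.Helper68.MG

universe u
variable {Ω : Type u} [Finite Ω]
/-- `MulAction.IsPreprimitive.isMultiplyPreprimitive (BR2 G hP) (s := Δ \ {b}) (n := Δ.ncard - 2)` with `M1a`; `|Δ \ {b}| = |Δ| - 1`, `|Δ| < Nat.card Ω` since `Δᶜ ≠ ∅`; `IsMultiplyPreprimitive` contains `IsMultiplyPretransitive`. -/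
theorem M1b (G : Subgroup (Equiv.Perm Ω)) (hP : Prim G) (Δ : Set Ω) (b : Ω) (hb : b ∈ Δ) (hJ : Jor G Δ)
    (hJ' : Jor G (Δ \ {b})) (h2 : 2 ≤ Δ.ncard) (hΓ : Δᶜ.Nonempty) :
    MulAction.IsMultiplyPretransitive ↥G Ω Δ.ncard := by
  obtain ⟨n, hn⟩ : ∃ n, Δ.ncard = n + 2 := ⟨Δ.ncard - 2, by omega⟩
  have hs : (Δ \ {b}).ncard = n + 1 := by
    rw [Set.ncard_diff_singleton_of_mem hb]; omega
  have hlt : n + 2 < Nat.card Ω := by
    rw [← hn, ← Set.ncard_univ]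
    apply Set.ncard_lt_ncard _ (Set.toFinite _)
    rw [Set.ssubset_univ_iff]
    intro h
    rw [h] at hΓ
    simp at hΓ
  have h := MulAction.IsPreprimitive.isMultiplyPreprimitive (BR2 G hP) hs hlt (M1a G Δ b hb hJ hJ')
  rw [hn]
  exact MulAction.IsMultiplyPreprimitive.isMultiplyPretransitive ↥G Ω (n + 2)

end Cfsg.Agent.Lib.Helper68.MG
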