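import Mathlib
import Cfsg.Agent.Lib.Helper68.MG.Defs

set_option autoImplicit false

namespace Cfsg.Agent.Lib.Helper68.MG

universe u
variable {Ω : Type u} [Finite Ω]

theorem M1c (G : Subgroup (Equiv.Perm Ω)) (t : ℕ) (ht : MulAction.IsMultiplyPretransitive ↥G Ω t) (htc : t ≤ Nat.card Ω)
    (s' : Set Ω) (a b : Ω) (ha : a ∉ s') (hb : b ∉ s') (hs : s'.ncard + 1 ≤ t) :
    ∃ g ∈ G, (∀ x ∈ s', g x = x) ∧ g a = b := by
  have h1 : MulAction.IsMultiplyPretransitive ↥G Ω (s'.ncard + 1) :=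
    MulAction.isMultiplyPretransitive_of_le hs htc
  have h2 : MulAction.IsMultiplyPretransitive (fixingSubgroup ↥G s')
      (SubMulAction.ofFixingSubgroup ↥G s') 1 :=
    SubMulAction.ofFixingSubgroup.isMultiplyPretransitive ↥G s' rfl
  rw [MulAction.is_one_pretransitive_iff] at h2
  obtain ⟨k, hk⟩ := h2.exists_smul_eq
    (⟨a, (SubMulAction.mem_ofFixingSubgroup_iff ↥G).2 ha⟩ : SubMulAction.ofFixingSubgroup ↥G s')
    ⟨b, (SubMulAction.mem_ofFixingSubgroup_iff ↥G).2 hb⟩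
  refine ⟨k.1.1, k.1.2, fun x hx => ?_, ?_⟩
  · exact (mem_fixingSubgroup_iff ↥G).1 k.2 x hx
  · exact congrArg Subtype.val hk

end Cfsg.Agent.Lib.Helper68.MG
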