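import Mathlib
import Cfsg.Agent.Lib.Helper68.MG.Defs
import Cfsg.Agent.Lib.Helper68.MG.XR1

set_option autoImplicit false

namespace Cfsg.Agent.Lib.Helper68.MG

universe u
variable {Ω : Type u}
/-- `c` fixes `Δᶜ` pointwise so `c '' Δ = Δ` (if `c x ∉ Δ` then `c (c x) = c x`, `c x = x`); `XR1` for the group `Fx G Δᶜ`; if `γ = 1` then `c` fixes `Δ` and `Δᶜ` pointwise, `c = 1`. -/
theorem SI0 (G : Subgroup (Equiv.Perm Ω)) (Δ : Set Ω) (c : Equiv.Perm Ω) (hc : c ∈ Fx G Δᶜ) (hc1 : c ≠ 1) :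
    ∃ γ ∈ Xr (Fx G Δᶜ) Δ, γ ≠ 1 := by
  have hmem : ∀ x, c x ∈ Δ ↔ x ∈ Δ := by
    intro x
    constructor
    · intro hx
      by_contra hxΔ
      have := hc.2 x hxΔ
      rw [this] at hx
      exact hxΔ hx
    · intro hx
      by_contra hcx
      have h1 := hc.2 (c x) hcx
      have h2 : c x = x := c.injective h1
      rw [h2] at hcx
      exact hcx hx
  have hΔ : c '' Δ = Δ := by
    ext y
    constructor
    · rintro ⟨x, hx, rfl⟩
      exact (hmem x).mpr hx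
    · intro hy
      refine ⟨c⁻¹ y, ?_, by simp⟩
      apply (hmem _).mp
      simpa using hy
  obtain ⟨γ, hγ, hγc⟩ := XR1 (Fx G Δᶜ) Δ c hc hΔ
  refine ⟨γ, hγ, ?_⟩
  rintro rfl
  apply hc1
  ext x
  by_cases hx : x ∈ Δ
  · have := hγc ⟨x, hx⟩
    simpa using this.symm
  · simpa using hc.2 x hx

end Cfsg.Agent.Lib.Helper68.MG
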