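import Mathlib
import Cfsg.Agent.Lib.Helper68.MG.Defs

set_option autoImplicit false

namespace Cfsg.Agent.Lib.Helper68.MG

universe u
variable {Ω : Type u} [Finite Ω]

/-- a permutation of a finite type mapping `Δ` into `Δ`: its inverse maps `Δᶜ` into `Δᶜ`... in fact
this direction needs no finiteness. -/
theorem SI1_inv_compl (s : Equiv.Perm Ω) (Δ : Set Ω) (h : ∀ x ∈ Δ, s x ∈ Δ) :
    ∀ y, y ∉ Δ → s⁻¹ y ∉ Δ := by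
  intro y hy hc
  apply hy
  have := h _ hc
  simpa using this

/-- `s ∈ G` induces `τ`, `c ∈ Fx G Δᶜ` induces `γ`: `s c s⁻¹ ∈ G` induces `τ γ τ⁻¹`; `s` maps `Δ` into `Δ`, so (finite) `s⁻¹` maps `Δᶜ` into `Δᶜ`, so `s c s⁻¹` fixes `Δᶜ` pointwise. -/
theorem SI1 (G : Subgroup (Equiv.Perm Ω)) (Δ : Set Ω) :
    ∀ τ ∈ Xr G Δ, ∀ γ ∈ Xr (Fx G Δᶜ) Δ, τ * γ * τ⁻¹ ∈ Xr (Fx G Δᶜ) Δ := by
  rintro τ ⟨s, hs, h1⟩ γ ⟨c, ⟨hcG, hcF⟩, h2⟩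
  have hsΔ : ∀ x ∈ Δ, s x ∈ Δ := by
    intro x hx
    have := h1 ⟨x, hx⟩
    simp only at this
    rw [this]
    exact (τ ⟨x, hx⟩).2
  refine ⟨s * c * s⁻¹, ⟨mul_mem (mul_mem hs hcG) (inv_mem hs), ?_⟩, ?_⟩
  · intro f hf
    have h3 : s⁻¹ f ∈ Δᶜ := SI1_inv_compl s Δ hsΔ f hf
    rw [Equiv.Perm.mul_apply, Equiv.Perm.mul_apply, hcF _ h3]
    simp
  · intro x
    have h4 : s⁻¹ (x : Ω) = ((τ⁻¹ x : ↥Δ) : Ω) := by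
      rw [Equiv.Perm.inv_eq_iff_eq, h1 (τ⁻¹ x)]
      simp
    rw [Equiv.Perm.mul_apply, Equiv.Perm.mul_apply, h4, h2 (τ⁻¹ x), h1 (γ (τ⁻¹ x)),
      Equiv.Perm.mul_apply, Equiv.Perm.mul_apply]

end Cfsg.Agent.Lib.Helper68.MG
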