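import Mathlib
import Cfsg.Agent.Lib.Helper68.MG.Defs

set_option autoImplicit false

namespace Cfsg.Agent.Lib.Helper68.MG

universe u
variable {α : Type u} [Fintype α] [DecidableEq α]
/-- pure Mathlib.  `γ x = y ≠ x`.  Pick `z, w` distinct from `x, y` and each other; `a = swap y z * swap z w` is even, fixes `x`, moves `y`.  `δ = (a γ a⁻¹) γ⁻¹`. -/
theorem SI2 (N : Subgroup (Equiv.Perm α)) (h5 : 5 ≤ Fintype.card α)
    (hn : ∀ a ∈ alternatingGroup α, ∀ γ ∈ N, a * γ * a⁻¹ ∈ N) (γ : Equiv.Perm α) (hγ : γ ∈ N) (hγ1 : γ ≠ 1) :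
    ∃ δ ∈ N, δ ∈ alternatingGroup α ∧ δ ≠ 1 := by
  obtain ⟨x, hx⟩ : ∃ x, γ x ≠ x := by
    by_contra h
    push_neg at h
    exact hγ1 (Equiv.ext h)
  set y := γ x with hy
  have hcard : 1 < (Finset.univ \ ({x, y} : Finset α)).card := by
    have h1 : ({x, y} : Finset α).card ≤ 2 := Finset.card_le_two
    have h2 := Finset.le_card_sdiff ({x, y} : Finset α) (Finset.univ : Finset α)
    rw [Finset.card_univ] at h2
    omega
  obtain ⟨z, hz, w, hw, hzw⟩ := Finset.one_lt_card.1 hcard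
  simp only [Finset.mem_sdiff, Finset.mem_univ, true_and, Finset.mem_insert, Finset.mem_singleton,
    not_or] at hz hw
  obtain ⟨hzx, hzy⟩ := hz
  obtain ⟨hwx, hwy⟩ := hw
  set a : Equiv.Perm α := Equiv.swap y z * Equiv.swap z w with ha
  have hsa : Equiv.Perm.sign a = 1 := by
    rw [ha, Equiv.Perm.sign_mul, Equiv.Perm.sign_swap (Ne.symm hzy), Equiv.Perm.sign_swap hzw]
    simp
  have haA : a ∈ alternatingGroup α := Equiv.Perm.mem_alternatingGroup.2 hsa
  have hax : a x = x := by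
    rw [ha, Equiv.Perm.mul_apply, Equiv.swap_apply_of_ne_of_ne (Ne.symm hzx) (Ne.symm hwx),
      Equiv.swap_apply_of_ne_of_ne (Ne.symm hx) (Ne.symm hzx)]
  have hay : a y = z := by
    rw [ha, Equiv.Perm.mul_apply, Equiv.swap_apply_of_ne_of_ne (Ne.symm hzy) (Ne.symm hwy),
      Equiv.swap_apply_left]
  refine ⟨a * γ * a⁻¹ * γ⁻¹, N.mul_mem (hn a haA γ hγ) (N.inv_mem hγ), ?_, ?_⟩
  · rw [Equiv.Perm.mem_alternatingGroup, Equiv.Perm.sign_mul, Equiv.Perm.sign_mul,
      Equiv.Perm.sign_mul, Equiv.Perm.sign_inv, Equiv.Perm.sign_inv, hsa]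
    simp
  · intro h
    have h1 : a * γ = γ * a := by
      have h2 : a * γ * a⁻¹ = γ := by
        rw [mul_inv_eq_one] at h
        exact h
      rw [mul_inv_eq_iff_eq_mul] at h2
      exact h2
    have h3 := congrArg (fun f : Equiv.Perm α => f x) h1
    simp only [Equiv.Perm.mul_apply] at h3
    rw [hax, ← hy, hay] at h3
    exact hzy h3

end Cfsg.Agent.Lib.Helper68.MG
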