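import Mathlib
import Cfsg.Agent.Lib.Helper68.MG.Defs

set_option autoImplicit false

namespace Cfsg.Agent.Lib.Helper68.MG

universe u
variable {α : Type u} [Fintype α] [DecidableEq α]
/-- pure Mathlib.  `N.subgroupOf (alternatingGroup α)` is normal (`hn`) and `≠ ⊥` (`δ`); simplicity of the alternating group gives `⊤`. -/
theorem SI3 (N : Subgroup (Equiv.Perm α)) (h5 : 5 ≤ Fintype.card α)
    (hn : ∀ a ∈ alternatingGroup α, ∀ γ ∈ N, a * γ * a⁻¹ ∈ N) (δ : Equiv.Perm α) (hδ : δ ∈ N)
    (hδa : δ ∈ alternatingGroup α) (hδ1 : δ ≠ 1) : alternatingGroup α ≤ N := by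
  haveI : IsSimpleGroup (alternatingGroup α) := alternatingGroup.isSimpleGroup (by rw [Nat.card_eq_fintype_card]; exact h5)
  have hnorm : (N.subgroupOf (alternatingGroup α)).Normal := by
    constructor
    intro x hx g
    rw [Subgroup.mem_subgroupOf] at hx ⊢
    simpa using hn g g.2 x hx
  rcases hnorm.eq_bot_or_eq_top with h | h
  · exfalso
    apply hδ1
    have h1 : (⟨δ, hδa⟩ : alternatingGroup α) ∈ N.subgroupOf (alternatingGroup α) := by
      rw [Subgroup.mem_subgroupOf]; exact hδ
    rw [h, Subgroup.mem_bot] at h1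
    exact congrArg Subtype.val h1
  · exact Subgroup.subgroupOf_eq_top.1 h

end Cfsg.Agent.Lib.Helper68.MG
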