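import Mathlib
import Cfsg.Agent.Lib.Helper68.MG.Defs
import Cfsg.Agent.Lib.Helper33.MG.T3

set_option autoImplicit false

namespace Cfsg.Agent.Lib.Helper68.MG

universe u
variable {Ω : Type u} [Fintype Ω] [DecidableEq Ω]
/-- the 3-cycle lemma (proved in `Helper33.MG.T3`). -/
theorem T3 (k g : Equiv.Perm Ω) (a : Ω) (ha : k a ≠ a) (hg : ∀ x, k x ≠ x → x ≠ a → g x = x)
    (hga : k (g a) = g a) : (k⁻¹ * (g * k * g⁻¹)).IsThreeCycle :=
  Cfsg.Agent.Lib.Helper33.MG.T3_threeCycle k g a ha hg hga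

end Cfsg.Agent.Lib.Helper68.MG
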